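import Mathlib
import Cfsg.Agent.S0713
import Cfsg.Agent.Helper49.GenTR
import Cfsg.Agent.Helper10.GenPR
import Cfsg.Agent.Helper65.GenNT
import Cfsg.Agent.Helper59.GenD13a
import Cfsg.Agent.Helper59.GenD13c
import Cfsg.Agent.Helper59.GenD13b
import Cfsg.Agent.Helper48.GenD7
import Cfsg.Agent.Helper91.GenRS
import Cfsg.Agent.Helper91.GenD6

/-!
# Pieces for S4150 (generation of alternating groups by two prime-order elements)

Each theorem below restates, under one namespace, a lemma proved by another seat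
(helper10, helper48, helper49, helper59, helper65, helper91); the assembly is in
`Cfsg.Agent.Helper30.Gen.Main` and `Cfsg.Agent.Helper30.Gen.Final`.
-/

set_option autoImplicit false
open Equiv Equiv.Perm

namespace Cfsg.Agent.Helper30.GenSkel

/-- (NT) -/
theorem exists_three_primes (n : ℕ) (hn : 9 ≤ n) :
    ∃ p₁ p₂ p₃ : ℕ, p₁.Prime ∧ p₂.Prime ∧ p₃.Prime ∧ n < p₁ ∧ p₁ < p₂ ∧ p₂ < p₃ ∧ p₃ ≤ 2 * n :=
  Cfsg.Agent.Helper65.GenNT.exists_three_primes n hn

/-- (PR) -/
theorem isPreprimitive_of_prime_cycle {α : Type*} [Fintype α] [DecidableEq α]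
    (G : Subgroup (Perm α)) [MulAction.IsPretransitive G α] {l : ℕ} (hl : l.Prime)
    {c : Perm α} (hc : c ∈ G) (hcc : c.IsCycle) (hcl : c.support.card = l)
    (hbig : Fintype.card α < 2 * l) : MulAction.IsPreprimitive G α :=
  Cfsg.Agent.Helper10.GenPR.isPreprimitive_of_prime_cycle G hl hc hcc hcl hbig

/-- (TR1) -/
theorem isPretransitive_closure_of_cycles {α : Type*} [Fintype α] [DecidableEq α] (σ τ : Perm α)
    (hσ : σ.IsCycle) (hτ : τ.IsCycle) (hcov : σ.support ∪ τ.support = Finset.univ)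
    (hint : (σ.support ∩ τ.support).Nonempty) :
    MulAction.IsPretransitive (Subgroup.closure ({σ, τ} : Set (Perm α))) α :=
  Cfsg.Agent.Helper49.GenTR.isPretransitive_closure_of_cycles σ τ hσ hτ hcov hint

/-- (TR2) -/
theorem isPretransitive_closure_of_two_cycles {α : Type*} [Fintype α] [DecidableEq α] {p : ℕ}
    (hp : p.Prime) (σ τ : Perm α) (hσ : σ.cycleType = {p, p}) (hα : Fintype.card α = 2 * p)
    (hτ : τ.IsCycle) (hτc : p < τ.support.card) :
    MulAction.IsPretransitive (Subgroup.closure ({σ, τ} : Set (Perm α))) α :=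
  Cfsg.Agent.Helper49.GenTR.isPretransitive_closure_of_two_cycles hp σ τ hσ hα hτ hτc

/-- (D7) -/
theorem alt_le_of_deg7 {α : Type*} [Fintype α] [DecidableEq α] (hα : Fintype.card α = 7)
    (H : Subgroup (Perm α)) {σ τ : Perm α} (hσ : σ ∈ H) (hτ : τ ∈ H) (hσc : σ.IsCycle)
    (hσ5 : σ.support.card = 5) (hτc : τ.IsCycle) (hτ7 : τ.support.card = 7) :
    alternatingGroup α ≤ H :=
  Cfsg.Agent.Helper48.GenD7.alt_le_of_deg7 hα H hσ hτ hσc hσ5 hτc hτ7



/-- (D6) -/
theorem deg6 {α : Type*} [Fintype α] [DecidableEq α] (hα : Fintype.card α = 6) (σ τ : Perm α)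
    (hσ : σ.cycleType = {3, 3}) (hτc : τ.IsCycle) (hτ5 : τ.support.card = 5) :
    Subgroup.closure ({σ, τ} : Set (Perm α)) = alternatingGroup α ∨
      Nonempty (↥(Subgroup.closure ({σ, τ} : Set (Perm α))) ≃* ↥(alternatingGroup (Fin 5))) :=
  Cfsg.Agent.Helper91.GenD6.deg6 hα σ τ hσ hτc hτ5

/-- (RS) -/
theorem exists_restrict {m : ℕ} (x y : alternatingGroup (Fin m)) :
    ∃ (α : Type) (_ : Fintype α) (_ : DecidableEq α) (σ τ : Perm α),
      σ.cycleType = (x : Perm (Fin m)).cycleType ∧ τ.cycleType = (y : Perm (Fin m)).cycleType ∧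
      σ.support ∪ τ.support = Finset.univ ∧ Fintype.card α ≤ m ∧
      Nonempty (↥(Subgroup.closure ({x, y} : Set (alternatingGroup (Fin m)))) ≃*
        ↥(Subgroup.closure ({σ, τ} : Set (Perm α)))) :=
  Cfsg.Agent.Helper91.GenRS.exists_restrict x y

end Cfsg.Agent.Helper30.GenSkel

namespace Cfsg.Agent.Helper30.GenSkel



section D13
variable {α : Type*} [Fintype α] [DecidableEq α]

/-- (D13a) -/
theorem three_trans_of_deg13 (hα : Fintype.card α = 13) (H : Subgroup (Perm α)) {σ τ : Perm α} (hσ : σ ∈ H) (hτ : τ ∈ H) (hσc : σ.IsCycle) (hσ11 : σ.support.card = 11) (hτc : τ.IsCycle) (hτ13 : τ.support.card = 13) : MulAction.IsMultiplyPretransitive H α 3 :=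
  Cfsg.Agent.Helper59.GenD13.three_trans_of_deg13 hα H hσ hτ hσc hσ11 hτc hτ13

/-- (D13c) -/
theorem alt_le_of_order_five_deg13 (hα : Fintype.card α = 13) (H : Subgroup (Perm α)) (h3 : MulAction.IsMultiplyPretransitive H α 3) {w : Perm α} (hw : w ∈ H) (hw5 : orderOf w = 5) : alternatingGroup α ≤ H :=
  Cfsg.Agent.Helper59.GenD13.alt_le_of_order_five_deg13 hα H h3 hw hw5

/-- (D13b) -/
theorem five_dvd_card_of_deg13 (hα : Fintype.card α = 13) (H : Subgroup (Perm α)) (hH : H ≤ alternatingGroup α) (h3 : MulAction.IsMultiplyPretransitive H α 3) {σ : Perm α} (hσ : σ ∈ H) (hσc : σ.IsCycle) (hσ11 : σ.support.card = 11) : 5 ∣ Nat.card H :=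
  Cfsg.Agent.Helper59.GenD13.five_dvd_card_of_deg13 hα H hH h3 hσ hσc hσ11

end D13

end Cfsg.Agent.Helper30.GenSkel
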