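import Mathlib
import Cfsg.Agent.S0713
import Cfsg.Agent.Helper30.Gen.Skel

/-!
# Two elements of large prime orders generate an alternating group (helper30, for S4150)
-/

set_option autoImplicit false
open Equiv Equiv.Perm
open Cfsg.Agent.Helper30.GenSkel

namespace Cfsg.Agent.Helper30.Gen

variable {α : Type*} [Fintype α] [DecidableEq α]

/-- cycle types of elements of prime order -/
theorem cycleType_of_orderOf_eq_prime {p : ℕ} (hp : p.Prime) (σ : Perm α) (hσ : orderOf σ = p) :
    ∃ k : ℕ, σ.cycleType = Multiset.replicate (k + 1) p ∧ (k + 1) * p ≤ Fintype.card α := by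
  obtain ⟨k, hk⟩ := cycleType_prime_order (σ := σ) (by rw [hσ]; exact hp)
  rw [hσ] at hk
  refine ⟨k, hk, ?_⟩
  have h1 := sum_cycleType_le σ
  rw [hk, Multiset.sum_replicate, smul_eq_mul] at h1
  exact h1

theorem isCycle_of_cycleType_singleton {p : ℕ} (σ : Perm α) (hσ : σ.cycleType = {p}) :
    σ.IsCycle ∧ σ.support.card = p := by
  constructor
  · rw [← card_cycleType_eq_one, hσ]
    rfl
  · rw [← sum_cycleType, hσ]
    rfl

/-- an element of prime order `p` on fewer than `2p` points is a `p`-cycle -/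
theorem isCycle_of_orderOf_eq_prime {p : ℕ} (hp : p.Prime) (σ : Perm α) (hσ : orderOf σ = p)
    (h : Fintype.card α < 2 * p) : σ.IsCycle ∧ σ.support.card = p := by
  obtain ⟨k, hk, hle⟩ := cycleType_of_orderOf_eq_prime hp σ hσ
  have hk0 : k = 0 := by
    by_contra hne
    have : 2 ≤ k + 1 := by omega
    have h2 : 2 * p ≤ (k + 1) * p := Nat.mul_le_mul_right p this
    omega
  subst hk0
  exact isCycle_of_cycleType_singleton σ (by rw [hk]; rfl)

/-- an element of prime order `p` on at most `2p` points is a `p`-cycle or a product of two -/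
theorem cycleType_of_orderOf_eq_prime_le {p : ℕ} (hp : p.Prime) (σ : Perm α) (hσ : orderOf σ = p)
    (h : Fintype.card α ≤ 2 * p) :
    (σ.IsCycle ∧ σ.support.card = p) ∨ (σ.cycleType = {p, p} ∧ Fintype.card α = 2 * p) := by
  obtain ⟨k, hk, hle⟩ := cycleType_of_orderOf_eq_prime hp σ hσ
  have hp0 := hp.pos
  have hk1 : k = 0 ∨ k = 1 := by
    by_contra hne
    have : 3 ≤ k + 1 := by omega
    have h2 : 3 * p ≤ (k + 1) * p := Nat.mul_le_mul_right p this
    omega
  rcases hk1 with rfl | rfl
  · left
    exact isCycle_of_cycleType_singleton σ (by rw [hk]; rfl)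
  · right
    refine ⟨by rw [hk]; rfl, ?_⟩
    omega

theorem sign_eq_of_cycleType_eq {β : Type*} [Fintype β] [DecidableEq β] (σ : Perm α) (τ : Perm β)
    (h : σ.cycleType = τ.cycleType) : ((sign σ : ℤˣ) : ℤ) = ((sign τ : ℤˣ) : ℤ) := by
  rw [sign_of_cycleType, sign_of_cycleType, h]

theorem orderOf_eq_of_cycleType_eq {β : Type*} [Fintype β] [DecidableEq β] (σ : Perm α)
    (τ : Perm β) (h : σ.cycleType = τ.cycleType) : orderOf σ = orderOf τ := by
  rw [← lcm_cycleType, ← lcm_cycleType, h]

/-- the generic case -/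
theorem closure_eq_alt {p q : ℕ} (hp : p.Prime) (hq : q.Prime)
    (σ τ : Perm α) (hσs : sign σ = 1) (hτs : sign τ = 1)
    (hcov : σ.support ∪ τ.support = Finset.univ)
    (hτc : τ.IsCycle) (hτq : τ.support.card = q) (hbig : Fintype.card α < 2 * q)
    (hpq : Fintype.card α < p + q)
    (hσ : (σ.IsCycle ∧ σ.support.card = p ∧ p + 3 ≤ Fintype.card α) ∨
          (σ.cycleType = {p, p} ∧ Fintype.card α = 2 * p ∧ p < q ∧ q + 3 ≤ Fintype.card α)) :
    Subgroup.closure ({σ, τ} : Set (Perm α)) = alternatingGroup α := by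
  have hσm : σ ∈ Subgroup.closure ({σ, τ} : Set (Perm α)) :=
    Subgroup.subset_closure (Set.mem_insert _ _)
  have hτm : τ ∈ Subgroup.closure ({σ, τ} : Set (Perm α)) :=
    Subgroup.subset_closure (Set.mem_insert_of_mem _ rfl)
  have hle : Subgroup.closure ({σ, τ} : Set (Perm α)) ≤ alternatingGroup α := by
    rw [Subgroup.closure_le]
    rintro g (rfl | rfl)
    · exact mem_alternatingGroup.mpr hσs
    · exact mem_alternatingGroup.mpr hτs
  apply le_antisymm hle
  have htr : MulAction.IsPretransitive (Subgroup.closure ({σ, τ} : Set (Perm α))) α := by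
    rcases hσ with ⟨hσc, hσp, -⟩ | ⟨hσt, hα, hlt, -⟩
    · apply isPretransitive_closure_of_cycles σ τ hσc hτc hcov
      rw [Finset.nonempty_iff_ne_empty]
      intro hemp
      have h1 := Finset.card_union_add_card_inter σ.support τ.support
      rw [hcov, hemp, Finset.card_empty, Finset.card_univ, hσp, hτq] at h1
      omega
    · exact isPretransitive_closure_of_two_cycles hp σ τ hσt hα hτc (by rw [hτq]; exact hlt)
  have hprim : MulAction.IsPreprimitive (Subgroup.closure ({σ, τ} : Set (Perm α))) α :=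
    isPreprimitive_of_prime_cycle _ hq hτm hτc hτq hbig
  rcases hσ with ⟨hσc, hσp, h3⟩ | ⟨-, -, -, h3⟩
  · have h5 : 5 ≤ Fintype.card α := by have := hp.two_le; omega
    exact Cfsg.Agent.S0713.result _ hprim hp h5 h3 hσc hσp hσm
  · have h5 : 5 ≤ Fintype.card α := by have := hq.two_le; omega
    exact Cfsg.Agent.S0713.result _ hprim hq h5 h3 hτc hτq hτm

/-- the case of a 3-cycle -/
theorem closure_eq_alt_three {q : ℕ} (hq : q.Prime)
    (σ τ : Perm α) (hτs : sign τ = 1)
    (hcov : σ.support ∪ τ.support = Finset.univ)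
    (hτc : τ.IsCycle) (hτq : τ.support.card = q) (hbig : Fintype.card α < 2 * q)
    (hpq : Fintype.card α < 3 + q) (hσ3 : σ.IsThreeCycle) :
    Subgroup.closure ({σ, τ} : Set (Perm α)) = alternatingGroup α := by
  have hσm : σ ∈ Subgroup.closure ({σ, τ} : Set (Perm α)) :=
    Subgroup.subset_closure (Set.mem_insert _ _)
  have hτm : τ ∈ Subgroup.closure ({σ, τ} : Set (Perm α)) :=
    Subgroup.subset_closure (Set.mem_insert_of_mem _ rfl)
  have hle : Subgroup.closure ({σ, τ} : Set (Perm α)) ≤ alternatingGroup α := by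
    rw [Subgroup.closure_le]
    rintro g (rfl | rfl)
    · exact mem_alternatingGroup.mpr hσ3.sign
    · exact mem_alternatingGroup.mpr hτs
  apply le_antisymm hle
  have htr : MulAction.IsPretransitive (Subgroup.closure ({σ, τ} : Set (Perm α))) α := by
    apply isPretransitive_closure_of_cycles σ τ hσ3.isCycle hτc hcov
    rw [Finset.nonempty_iff_ne_empty]
    intro hemp
    have h1 := Finset.card_union_add_card_inter σ.support τ.support
    rw [hcov, hemp, Finset.card_empty, Finset.card_univ, hσ3.card_support, hτq] at h1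
    omega
  have hprim : MulAction.IsPreprimitive (Subgroup.closure ({σ, τ} : Set (Perm α))) α :=
    isPreprimitive_of_prime_cycle _ hq hτm hτc hτq hbig
  exact alternatingGroup_le_of_isPreprimitive_of_isThreeCycle_mem hprim hσ3 hσm

end Cfsg.Agent.Helper30.Gen
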