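import Mathlib
import Cfsg.Agent.Helper30.Gen.Skel
import Cfsg.Agent.Helper30.Gen.Main

/-!
# Assembly for S4150 (helper30)
-/

set_option autoImplicit false
open Equiv Equiv.Perm
open Cfsg.Agent.Helper30.GenSkel

namespace Cfsg.Agent.Helper30.Gen

/-- the degree 13 case -/
theorem alt_le_of_deg13' {α : Type*} [Fintype α] [DecidableEq α] (hα : Fintype.card α = 13)
    (H : Subgroup (Perm α)) (hH : H ≤ alternatingGroup α) {σ τ : Perm α} (hσ : σ ∈ H) (hτ : τ ∈ H)
    (hσc : σ.IsCycle) (hσ11 : σ.support.card = 11) (hτc : τ.IsCycle) (hτ13 : τ.support.card = 13) :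
    alternatingGroup α ≤ H := by
  have h3 := three_trans_of_deg13 hα H hσ hτ hσc hσ11 hτc hτ13
  have h5 := five_dvd_card_of_deg13 hα H hH h3 hσ hσc hσ11
  have : Fact (Nat.Prime 5) := ⟨by norm_num⟩
  obtain ⟨w, hw⟩ := exists_prime_orderOf_dvd_card' 5 h5
  have hw5 : orderOf (w : Perm α) = 5 := by rw [Subgroup.orderOf_coe]; exact hw
  exact alt_le_of_order_five_deg13 hα H h3 w.2 hw5

/-- reduction to the support -/
theorem reduce {m p q : ℕ} (hp : p.Prime) (hq : q.Prime) (hmp : m ≤ 2 * p) (hpq : p < q)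
    (x y : alternatingGroup (Fin m)) (hx : orderOf x = p) (hy : orderOf y = q) :
    ∃ (α : Type) (_ : Fintype α) (_ : DecidableEq α) (σ τ : Perm α),
      sign σ = 1 ∧ sign τ = 1 ∧ σ.support ∪ τ.support = Finset.univ ∧ Fintype.card α ≤ m ∧
      q ≤ Fintype.card α ∧ τ.IsCycle ∧ τ.support.card = q ∧
      ((σ.IsCycle ∧ σ.support.card = p) ∨ (σ.cycleType = {p, p} ∧ Fintype.card α = 2 * p)) ∧
      Nonempty (↥(Subgroup.closure ({x, y} : Set (alternatingGroup (Fin m)))) ≃*
        ↥(Subgroup.closure ({σ, τ} : Set (Perm α)))) := by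
  obtain ⟨α, i1, i2, σ, τ, hσt, hτt, hcov, hcard, ⟨e⟩⟩ := exists_restrict x y
  have hσo : orderOf σ = p := by
    rw [orderOf_eq_of_cycleType_eq σ (x : Perm (Fin m)) hσt, Subgroup.orderOf_coe, hx]
  have hτo : orderOf τ = q := by
    rw [orderOf_eq_of_cycleType_eq τ (y : Perm (Fin m)) hτt, Subgroup.orderOf_coe, hy]
  have hσs : sign σ = 1 := by
    apply Units.ext
    rw [sign_eq_of_cycleType_eq σ (x : Perm (Fin m)) hσt, mem_alternatingGroup.mp x.2]
  have hτs : sign τ = 1 := by
    apply Units.ext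
    rw [sign_eq_of_cycleType_eq τ (y : Perm (Fin m)) hτt, mem_alternatingGroup.mp y.2]
  have hτ := isCycle_of_orderOf_eq_prime hq τ hτo (by omega)
  have hσ := cycleType_of_orderOf_eq_prime_le hp σ hσo (by omega)
  have hqle : q ≤ Fintype.card α := by
    rw [← hτ.2]
    exact Finset.card_le_univ _
  exact ⟨α, i1, i2, σ, τ, hσs, hτs, hcov, hcard, hqle, hτ.1, hτ.2, hσ, ⟨e⟩⟩

theorem finish {m : ℕ} {x y : alternatingGroup (Fin m)} {α : Type} [Fintype α] [DecidableEq α]
    {σ τ : Perm α} (h5 : 5 ≤ Fintype.card α)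
    (e : ↥(Subgroup.closure ({x, y} : Set (alternatingGroup (Fin m)))) ≃*
        ↥(Subgroup.closure ({σ, τ} : Set (Perm α))))
    (h : Subgroup.closure ({σ, τ} : Set (Perm α)) = alternatingGroup α) :
    ∃ d : ℕ, 5 ≤ d ∧ Nonempty (↥(Subgroup.closure ({x, y} : Set (alternatingGroup (Fin m)))) ≃*
      ↥(alternatingGroup (Fin d))) :=
  ⟨Fintype.card α, h5, ⟨(e.trans (MulEquiv.subgroupCongr h)).trans
    (Equiv.altCongrHom (Fintype.equivFin α))⟩⟩

/-- the generic situation: `q ≥ p + 3` and `m < 2p` -/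
theorem generic {m p q : ℕ} (hp : p.Prime) (hq : q.Prime) (hmp : m < 2 * p) (hpq : p + 3 ≤ q)
    (hqm : q ≤ m) (x y : alternatingGroup (Fin m)) (hx : orderOf x = p) (hy : orderOf y = q) :
    ∃ d : ℕ, 5 ≤ d ∧ Nonempty (↥(Subgroup.closure ({x, y} : Set (alternatingGroup (Fin m)))) ≃*
      ↥(alternatingGroup (Fin d))) := by
  obtain ⟨α, i1, i2, σ, τ, hσs, hτs, hcov, hcard, hqle, hτc, hτq, hσ, ⟨e⟩⟩ :=
    reduce hp hq (by omega) (by omega) x y hx hy
  have hp2 := hp.two_le
  rcases hσ with ⟨hσc, hσp⟩ | ⟨-, h2⟩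
  · refine finish (by omega) e ?_
    exact closure_eq_alt hp hq σ τ hσs hτs hcov hτc hτq (by omega) (by omega)
      (Or.inl ⟨hσc, hσp, by omega⟩)
  · omega

/-- the statement of S4150 -/
theorem main (m : ℕ) (hm : 5 ≤ m) :
    ∃ p q : ℕ, p.Prime ∧ q.Prime ∧ m ≤ 2 * p ∧ p < q ∧ q ≤ m ∧
      ∀ x y : alternatingGroup (Fin m), orderOf x = p → orderOf y = q →
        ∃ d : ℕ, 5 ≤ d ∧ Nonempty (Subgroup.closure ({x, y} : Set (alternatingGroup (Fin m))) ≃*
          alternatingGroup (Fin d)) := by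
  by_cases h18 : 18 ≤ m
  · -- three primes in `(m / 2, m]`
    obtain ⟨p₁, p₂, p₃, hp₁, hp₂, hp₃, h1, h2, h3, h4⟩ := exists_three_primes (m / 2) (by omega)
    have hodd : ∀ r : ℕ, r.Prime → 9 < r → r % 2 = 1 := by
      intro r hr h9
      rcases hr.eq_two_or_odd with h | h
      · omega
      · exact h
    have o1 := hodd p₁ hp₁ (by omega)
    have o2 := hodd p₂ hp₂ (by omega)
    have o3 := hodd p₃ hp₃ (by omega)
    refine ⟨p₁, p₃, hp₁, hp₃, by omega, by omega, by omega, ?_⟩
    intro x y hx hy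
    exact generic hp₁ hp₃ (by omega) (by omega) (by omega) x y hx hy
  by_cases h17 : m = 17
  · subst h17
    refine ⟨11, 17, by norm_num, by norm_num, by norm_num, by norm_num, by norm_num, ?_⟩
    intro x y hx hy
    exact generic (by norm_num) (by norm_num) (by norm_num) (by norm_num) (by norm_num) x y hx hy
  by_cases h14 : 14 ≤ m
  · -- the primes 11 and 13
    have hp : Nat.Prime 11 := by norm_num
    have hq : Nat.Prime 13 := by norm_num
    refine ⟨11, 13, hp, hq, by omega, by norm_num, by omega, ?_⟩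
    intro x y hx hy
    obtain ⟨α, i1, i2, σ, τ, hσs, hτs, hcov, hcard, hqle, hτc, hτq, hσ, ⟨e⟩⟩ :=
      reduce hp hq (by omega) (by norm_num) x y hx hy
    rcases hσ with ⟨hσc, hσp⟩ | ⟨-, h2⟩
    · refine finish (by omega) e ?_
      by_cases h13 : Fintype.card α = 13
      · apply le_antisymm
        · rw [Subgroup.closure_le]
          rintro g (rfl | rfl)
          · exact mem_alternatingGroup.mpr hσs
          · exact mem_alternatingGroup.mpr hτs
        · have hle : Subgroup.closure ({σ, τ} : Set (Perm α)) ≤ alternatingGroup α := by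
            rw [Subgroup.closure_le]
            rintro g (rfl | rfl)
            · exact mem_alternatingGroup.mpr hσs
            · exact mem_alternatingGroup.mpr hτs
          exact alt_le_of_deg13' h13 _ hle
            (Subgroup.subset_closure (Set.mem_insert _ _))
            (Subgroup.subset_closure (Set.mem_insert_of_mem _ rfl)) hσc hσp hτc hτq
      · exact closure_eq_alt hp hq σ τ hσs hτs hcov hτc hτq (by omega) (by omega)
          (Or.inl ⟨hσc, hσp, by omega⟩)
    · omega
  by_cases h11 : 11 ≤ m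
  · refine ⟨7, 11, by norm_num, by norm_num, by omega, by norm_num, by omega, ?_⟩
    intro x y hx hy
    exact generic (by norm_num) (by norm_num) (by omega) (by norm_num) (by omega) x y hx hy
  by_cases h7 : 7 ≤ m
  · -- the primes 5 and 7
    have hp : Nat.Prime 5 := by norm_num
    have hq : Nat.Prime 7 := by norm_num
    refine ⟨5, 7, hp, hq, by omega, by norm_num, by omega, ?_⟩
    intro x y hx hy
    obtain ⟨α, i1, i2, σ, τ, hσs, hτs, hcov, hcard, hqle, hτc, hτq, hσ, ⟨e⟩⟩ :=
      reduce hp hq (by omega) (by norm_num) x y hx hy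
    refine finish (by omega) e ?_
    rcases hσ with ⟨hσc, hσp⟩ | ⟨hσt, h2⟩
    · by_cases h7' : Fintype.card α = 7
      · apply le_antisymm
        · rw [Subgroup.closure_le]
          rintro g (rfl | rfl)
          · exact mem_alternatingGroup.mpr hσs
          · exact mem_alternatingGroup.mpr hτs
        · exact alt_le_of_deg7 h7' _
            (Subgroup.subset_closure (Set.mem_insert _ _))
            (Subgroup.subset_closure (Set.mem_insert_of_mem _ rfl)) hσc hσp hτc hτq
      · exact closure_eq_alt hp hq σ τ hσs hτs hcov hτc hτq (by omega) (by omega)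
          (Or.inl ⟨hσc, hσp, by omega⟩)
    · exact closure_eq_alt hp hq σ τ hσs hτs hcov hτc hτq (by omega) (by omega)
        (Or.inr ⟨hσt, h2, by norm_num, by omega⟩)
  · -- the primes 3 and 5
    have hp : Nat.Prime 3 := by norm_num
    have hq : Nat.Prime 5 := by norm_num
    refine ⟨3, 5, hp, hq, by omega, by norm_num, by omega, ?_⟩
    intro x y hx hy
    obtain ⟨α, i1, i2, σ, τ, hσs, hτs, hcov, hcard, hqle, hτc, hτq, hσ, ⟨e⟩⟩ :=
      reduce hp hq (by omega) (by norm_num) x y hx hy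
    rcases hσ with ⟨hσc, hσp⟩ | ⟨hσt, h2⟩
    · refine finish (by omega) e ?_
      have h3c : σ.IsThreeCycle := by
        rw [← card_support_eq_three_iff]
        exact hσp
      exact closure_eq_alt_three hq σ τ hτs hcov hτc hτq (by omega) (by omega) h3c
    · rcases deg6 (by omega) σ τ hσt hτc hτq with h | ⟨⟨e2⟩⟩
      · exact finish (by omega) e h
      · exact ⟨5, le_refl 5, ⟨e.trans e2⟩⟩

end Cfsg.Agent.Helper30.Gen
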